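import Cfsg.Agent.Helper28.C1685.Data

set_option autoImplicit false

namespace Cfsg.Agent.Helper28.C1685

theorem rel_40 : Cfsg.Agent.Helper28.ptChunk (Cfsg.Agent.Helper28.relPt T relL) 14080 256 40 = true := by decide +kernel

theorem rel_41 : Cfsg.Agent.Helper28.ptChunk (Cfsg.Agent.Helper28.relPt T relL) 14080 256 41 = true := by decide +kernel

theorem rel_42 : Cfsg.Agent.Helper28.ptChunk (Cfsg.Agent.Helper28.relPt T relL) 14080 256 42 = true := by decide +kernel

theorem rel_43 : Cfsg.Agent.Helper28.ptChunk (Cfsg.Agent.Helper28.relPt T relL) 14080 256 43 = true := by decide +kernel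

theorem rel_44 : Cfsg.Agent.Helper28.ptChunk (Cfsg.Agent.Helper28.relPt T relL) 14080 256 44 = true := by decide +kernel

theorem rel_45 : Cfsg.Agent.Helper28.ptChunk (Cfsg.Agent.Helper28.relPt T relL) 14080 256 45 = true := by decide +kernel

theorem rel_46 : Cfsg.Agent.Helper28.ptChunk (Cfsg.Agent.Helper28.relPt T relL) 14080 256 46 = true := by decide +kernel

theorem rel_47 : Cfsg.Agent.Helper28.ptChunk (Cfsg.Agent.Helper28.relPt T relL) 14080 256 47 = true := by decide +kernel

end Cfsg.Agent.Helper28.C1685
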